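import Mathlib.RingTheory.Nilpotent.GeometricallyReduced
import Mathlib.RingTheory.Unramified.Field
import Mathlib.RingTheory.Flat.Basic
import Mathlib.RingTheory.Etale.Field
import Mathlib.RingTheory.TensorProduct.Free
import Mathlib.Algebra.CharP.Lemmas
import Mathlib.Algebra.CharP.Algebra
import Mathlib.FieldTheory.Perfect
import Mathlib.FieldTheory.IsAlgClosed.Basic

/-!
# Geometrically reduced field extensions and `p`-th powers of independent families
-/

universe u

open scoped TensorProduct

namespace GrothLib.SepField

/-- `p`-th powers of `k`-independent families of `K` stay `k`-independent (MacLane's criterion). -/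
def PowIndep (p : ℕ) (k K : Type u) [Field k] [Field K] [Algebra k K] : Prop :=
  ∀ {ι : Type u} (s : ι → K), LinearIndependent k s → LinearIndependent k fun i => s i ^ p

variable {k K : Type u} [Field k] [Field K] [Algebra k K] {p : ℕ} [hp : Fact p.Prime]

theorem powIndep_of_isGeometricallyReduced [CharP k p] (h : Algebra.IsGeometricallyReduced k K) :
    PowIndep p k K := by
  intro ι s hs
  rw [linearIndependent_iff']
  intro t g hg i hi
  haveI : CharP (AlgebraicClosure k) p := charP_of_injective_algebraMap (algebraMap k _).injective p
  haveI hred : IsReduced (AlgebraicClosure k ⊗[k] K) :=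
    (Algebra.isGeometricallyReduced_field_iff k K).1 h
  haveI : CharP (AlgebraicClosure k ⊗[k] K) p := charP_of_injective_ringHom
    (f := (Algebra.TensorProduct.includeLeft :
      AlgebraicClosure k →ₐ[k] AlgebraicClosure k ⊗[k] K).toRingHom) (Algebra.TensorProduct.includeLeft_injective (RingHom.injective _)) p
  choose r hr using fun j => IsAlgClosed.exists_pow_nat_eq (algebraMap k (AlgebraicClosure k) (g j))
    hp.out.pos
  have h0 : (∑ j ∈ t, r j • ((1 : AlgebraicClosure k) ⊗ₜ[k] s j)) = 0 := by
    refine (pow_eq_zero_iff hp.out.ne_zero).1 ?_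
    rw [sum_pow_char]
    calc ∑ j ∈ t, (r j • ((1 : AlgebraicClosure k) ⊗ₜ[k] s j)) ^ p
        = ∑ j ∈ t, (1 : AlgebraicClosure k) ⊗ₜ[k] (g j • s j ^ p) := Finset.sum_congr rfl fun j _ => by
          rw [TensorProduct.smul_tmul', smul_eq_mul, mul_one, Algebra.TensorProduct.tmul_pow, hr,
            Algebra.algebraMap_eq_smul_one, TensorProduct.smul_tmul]
      _ = 0 := by rw [← TensorProduct.tmul_sum, hg, TensorProduct.tmul_zero]
  have h1 := linearIndependent_iff'.1
    (Module.Flat.linearIndependent_one_tmul (S := AlgebraicClosure k) hs) t r h0 i hi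
  refine (algebraMap k (AlgebraicClosure k)).injective ?_
  rw [map_zero, ← hr, h1, zero_pow hp.out.ne_zero]

theorem isGeometricallyReduced_of_powIndep [CharP k p] (h : PowIndep p k K) :
    Algebra.IsGeometricallyReduced k K := by
  rw [Algebra.isGeometricallyReduced_field_iff]
  set k' := AlgebraicClosure k
  haveI : CharP k' p := charP_of_injective_algebraMap (algebraMap k _).injective p
  haveI : CharP (k' ⊗[k] K) p := charP_of_injective_ringHom
    (f := (Algebra.TensorProduct.includeLeft : k' →ₐ[k] k' ⊗[k] K).toRingHom)
      (Algebra.TensorProduct.includeLeft_injective (RingHom.injective _)) p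
  have hinj : ∀ z : k' ⊗[k] K, z ^ p = 0 → z = 0 := by
    intro z hz
    let b := Module.Free.chooseBasis k K
    let B := Algebra.TensorProduct.basis k' b
    have hli := Module.Flat.linearIndependent_one_tmul (S := k') (h _ b.linearIndependent)
    rw [← B.linearCombination_repr z, Finsupp.linearCombination_apply, Finsupp.sum, sum_pow_char]
      at hz
    have h1 := linearIndependent_iff'.1 hli (B.repr z).support (fun j => B.repr z j ^ p) (by
      refine Eq.trans (Finset.sum_congr rfl fun j _ => ?_) hz
      rw [Algebra.TensorProduct.basis_apply, smul_pow, Algebra.TensorProduct.tmul_pow, one_pow])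
    refine B.repr.map_eq_zero_iff.1 (Finsupp.ext fun j => ?_)
    by_cases hj : j ∈ (B.repr z).support
    · exact (pow_eq_zero_iff hp.out.ne_zero).1 (h1 j hj)
    · exact Finsupp.notMem_support_iff.1 hj
  suffices h2 : ∀ (n : ℕ) (z : k' ⊗[k] K), z ^ p ^ n = 0 → z = 0 by
    refine ⟨fun z ⟨n, hn⟩ => h2 n z (pow_eq_zero_of_le (n.lt_pow_self hp.out.one_lt).le hn)⟩
  intro n
  induction n with
  | zero => intro z hz; simpa using hz
  | succ m ih =>
      intro z hz
      refine hinj z (ih (z ^ p) ?_)
      rw [← pow_mul, ← pow_succ']
      exact hz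

theorem isGeometricallyReduced_iff_powIndep [CharP k p] :
    Algebra.IsGeometricallyReduced k K ↔ PowIndep p k K :=
  ⟨powIndep_of_isGeometricallyReduced, isGeometricallyReduced_of_powIndep⟩

omit hp in
/-- Every extension of a perfect field is geometrically reduced. -/
theorem isGeometricallyReduced_of_perfectField [PerfectField k] :
    Algebra.IsGeometricallyReduced k K := by
  rw [Algebra.isGeometricallyReduced_field_iff]
  set k' := AlgebraicClosure k
  have : IsReduced (K ⊗[k] k') := by
    refine IsReduced.tensorProduct_of_flat_of_forall_fg fun B hB => ?_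
    haveI : Algebra.IsAlgebraic k B :=
      Algebra.IsAlgebraic.of_injective B.val Subtype.val_injective
    haveI : Algebra.FiniteType k B := ⟨(Subalgebra.fg_top B).2 hB⟩
    let _ : Field B := Subalgebra.isField_of_algebraic B |>.toField
    haveI : Algebra.IsSeparable k B := inferInstance
    haveI : Algebra.FormallyUnramified k B := Algebra.FormallyUnramified.of_isSeparable k B
    exact Algebra.FormallyUnramified.isReduced_of_field K (K ⊗[k] B)
  exact isReduced_of_injective (Algebra.TensorProduct.comm k k' K)
    (Algebra.TensorProduct.comm k k' K).injective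

end GrothLib.SepField
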