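import Groth.Agent.Lib.PBasis.Field
import Groth.Agent.Lib.PBasis.Perfect
import Groth.Agent.Lib.SepField.Reduced
import Mathlib.RingTheory.Kaehler.JacobiZariski
import Mathlib.RingTheory.Smooth.Field
import Mathlib.RingTheory.AlgebraicIndependent.TranscendenceBasis
import Mathlib.Algebra.Field.ULift
import Mathlib.Algebra.Field.ZMod

/-!
# Separable field extensions: differentials and formal smoothness
-/

universe u v w

open scoped TensorProduct
open KaehlerDifferential (D mapBaseChange)

namespace GrothLib.SepField

section general

variable (R : Type w) (S : Type u) (T : Type v) [CommRing R] [CommRing S] [CommRing T]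
  [Algebra R S] [Algebra S T] [Algebra R T] [IsScalarTower R S T]

theorem injective_mapBaseChange_of_formallySmooth [Algebra.FormallySmooth S T] :
    Function.Injective (mapBaseChange R S T) := by
  rw [← LinearMap.ker_eq_bot, (Algebra.H1Cotangent.exact_δ_mapBaseChange R S T).linearMap_ker_eq,
    LinearMap.range_eq_bot]
  ext z
  rw [Subsingleton.elim z 0, map_zero, map_zero]

theorem subsingleton_h1Cotangent_of_injective [Algebra.FormallySmooth R T]
    (h : Function.Injective (mapBaseChange R S T)) :
    Subsingleton (Algebra.H1Cotangent S T) := by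
  refine subsingleton_iff_forall_eq 0 |>.2 fun z => ?_
  have h1 : Algebra.H1Cotangent.δ R S T z = 0 := h (by
    rw [(Algebra.H1Cotangent.exact_δ_mapBaseChange R S T).apply_apply_eq_zero, map_zero])
  obtain ⟨y, rfl⟩ := (Algebra.H1Cotangent.exact_map_δ R S T z).1 h1
  rw [Subsingleton.elim y 0, map_zero]

theorem bijective_map_of_formallyUnramified [Algebra.FormallyUnramified R S] :
    Function.Bijective (KaehlerDifferential.map R S T T) := by
  refine ⟨?_, KaehlerDifferential.map_surjective R S T⟩
  rw [← LinearMap.ker_eq_bot,
    (KaehlerDifferential.exact_mapBaseChange_map R S T).linearMap_ker_eq, LinearMap.range_eq_bot]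
  ext z
  simp [Subsingleton.elim (D R S z) 0]

end general

section transfer

variable (R : Type w) (P : Type u) (S T : Type u) [CommRing R] [CommRing P] [CommRing S] [CommRing T]
  [Algebra R P] [Algebra R S] [Algebra R T] [Algebra P S] [Algebra P T] [Algebra S T]
  [IsScalarTower R P S] [IsScalarTower R P T] [IsScalarTower R S T] [IsScalarTower P S T]

theorem injective_mapBaseChange_iff_of_formallyUnramified [Algebra.FormallyUnramified R P] :
    Function.Injective (mapBaseChange R S T) ↔ Function.Injective (mapBaseChange P S T) := by
  let eS := LinearEquiv.ofBijective _ (bijective_map_of_formallyUnramified R P S)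
  let eT := LinearEquiv.ofBijective _ (bijective_map_of_formallyUnramified R P T)
  let e : T ⊗[S] Ω[S⁄R] ≃ₗ[T] T ⊗[S] Ω[S⁄P] :=
    TensorProduct.AlgebraTensorModule.congr (LinearEquiv.refl T T) eS
  have hsq : ∀ z, eT (mapBaseChange R S T z) = mapBaseChange P S T (e z) := by
    intro z
    induction z with
    | zero => simp
    | add a b ha hb => simp [map_add, ha, hb]
    | tmul t ω =>
        simp only [e, TensorProduct.AlgebraTensorModule.congr_tmul, LinearEquiv.refl_apply,
          KaehlerDifferential.mapBaseChange_tmul, map_smul]
        congr 1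
        induction (KaehlerDifferential.span_range_derivation R S ▸ Submodule.mem_top :
            ω ∈ Submodule.span S (Set.range (D R S))) using Submodule.span_induction with
        | mem y hy =>
            obtain ⟨s, rfl⟩ := hy
            simp [eS, eT]
        | zero => simp
        | add a b _ _ ha hb => simp only [map_add, ha, hb]
        | smul c a _ ha =>
            rw [LinearMap.map_smul, eS.map_smul, LinearMap.map_smul, ← ha]
            exact eT.toLinearMap.map_smul_of_tower c _
  constructor
  · intro h
    have : Function.Injective (mapBaseChange P S T ∘ e) := by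
      rw [show mapBaseChange P S T ∘ e = eT ∘ mapBaseChange R S T from funext fun z => (hsq z).symm]
      exact eT.injective.comp h
    exact (Function.Injective.of_comp_iff' _ e.bijective).1 this
  · intro h
    refine Function.Injective.of_comp (f := eT) ?_
    rw [show eT ∘ mapBaseChange R S T = mapBaseChange P S T ∘ e from funext hsq]
    exact h.comp e.injective

end transfer

section charp

open EGA41 GrothLib.PBasis

variable {p : ℕ} [hp : Fact p.Prime] {P k K : Type u} [Field P] [PerfectRing P p] [CharP P p]
  [Field k] [Field K] [CharP k p] [CharP K p] [Algebra P k] [Algebra P K] [Algebra k K]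
  [IsScalarTower P k K]

omit [CharP k p] [CharP P p] [PerfectRing P p] [IsScalarTower P k K] [Algebra P k] [Algebra k K] in
theorem exists_pBasis' : ∃ B : Set K, IsPBasis p P (Subtype.val : B → K) := by
  obtain ⟨B, -, hB⟩ := exists_pBasis_superset (p := p) (k := P) (K := K) (x := PEmpty.elim)
    ((isPIndependent_iff_linearIndependent _).2 linearIndependent_empty_type)
  exact ⟨B, hB⟩

omit hp [CharP P p] [PerfectRing P p] [CharP K p] [CharP k p] [IsScalarTower P k K] [Algebra P k] [Algebra k K] in
theorem formallySmooth_perfect (p : ℕ) [Fact p.Prime] [CharP P p] [PerfectRing P p] [CharP K p] :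
    Algebra.FormallySmooth P K := by
  obtain ⟨B, hB⟩ := exists_pBasis' (p := p) (P := P) (K := K)
  exact formallySmooth_of_isPBasis hB

theorem injective_mapBaseChange_iff_powIndep :
    Function.Injective (mapBaseChange P k K) ↔ PowIndep p k K := by
  classical
  obtain ⟨B, hB⟩ := exists_pBasis' (p := p) (P := P) (K := k)
  have hroot := isRootBasis_of_isPBasis hB
  set x : B → k := Subtype.val with hx
  obtain ⟨bk, hbk⟩ := exists_basis_kaehler (CharP.cast_eq_zero k p) _ hB
  let f := mapBaseChange P k K
  let bT := Algebra.TensorProduct.basis K bk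
  have hf : f ∘ bT = fun i => D P K (algebraMap k K (x i)) := funext fun i => by
    simp [f, bT, hbk]
  have h1 : Function.Injective f ↔ IsPIndependent p P (fun i => algebraMap k K (x i)) := by
    rw [isPIndependent_iff_linearIndependent, ← hf]
    refine ⟨fun h => bT.linearIndependent.map' f (LinearMap.ker_eq_bot.2 h), fun h => ?_⟩
    rw [← LinearMap.ker_eq_bot, eq_bot_iff]
    intro v hv
    have hl : Finsupp.linearCombination K (f ∘ bT) (bT.repr v) = 0 := by
      rw [← hv]
      conv_rhs => rw [← bT.linearCombination_repr v]
      rw [Finsupp.apply_linearCombination]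
    simpa using linearIndependent_iff.1 h _ hl
  rw [h1]
  have hxe : ∀ e : B →₀ ℕ, pMonomial (fun i => algebraMap k K (x i)) e =
      algebraMap k K (pMonomial x e) := fun e => (map_pMonomial _ _ _).symm
  constructor
  · intro hind ι s hs
    rw [linearIndependent_iff']
    intro t g hg i hi
    have hmem : ∀ i, g i ∈ Submodule.span (pPowerSubalgebra p P k)
        (Set.range fun e : Red p B => pMonomial x e.1) := fun i => by
      rw [hroot.span_eq_top]; exact Submodule.mem_top
    simp only [Finsupp.mem_span_range_iff_exists_finsupp] at hmem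
    choose c hc using hmem
    choose a ha using fun (i : ι) (e : Red p B) => exists_root_of_mem_pPower (c i e).2
    let T : Finset (Red p B) := t.biUnion fun i => (c i).support
    have hgi : ∀ i ∈ t, g i = ∑ e ∈ T, a i e ^ p * pMonomial x e.1 := by
      intro i hi
      rw [← hc i, Finsupp.sum_of_support_subset (c i) (Finset.subset_biUnion_of_mem
        (fun i => (c i).support) hi) (fun e r => r • pMonomial x e.1) (fun _ _ => zero_smul _ _)]
      refine Finset.sum_congr rfl fun e _ => ?_
      rw [ha]; rfl
    let G : Red p B → pPowerSubalgebra p P K := fun e =>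
      ⟨(∑ i ∈ t, a i e • s i) ^ p, Algebra.subset_adjoin ⟨_, rfl⟩⟩
    have hG : ∑ e ∈ T, G e • pMonomial (fun i => algebraMap k K (x i)) e.1 = 0 := by
      refine Eq.trans ?_ hg
      calc _ = ∑ e ∈ T, ∑ i ∈ t, (a i e ^ p * pMonomial x e.1) • s i ^ p := ?_
        _ = ∑ i ∈ t, g i • s i ^ p := ?_
      · refine Finset.sum_congr rfl fun e _ => ?_
        change (∑ i ∈ t, a i e • s i) ^ p * _ = _
        rw [sum_pow_char, Finset.sum_mul]
        refine Finset.sum_congr rfl fun i _ => ?_
        rw [smul_pow, hxe, Algebra.smul_def, Algebra.smul_def, map_mul]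
        ring
      · rw [Finset.sum_comm]
        refine Finset.sum_congr rfl fun i hi => ?_
        rw [hgi i hi, Finset.sum_smul]
    rw [hgi i hi]
    refine Finset.sum_eq_zero fun e he => ?_
    have h2 : (∑ i ∈ t, a i e • s i) ^ p = 0 :=
      congrArg Subtype.val (linearIndependent_iff'.1 hind T G hG e he)
    rw [linearIndependent_iff'.1 hs t _ ((pow_eq_zero_iff hp.out.ne_zero).1 h2) i hi,
      zero_pow hp.out.ne_zero, zero_mul]
  · intro hpow
    refine linearIndependent_iff'.2 fun T g hg e he => ?_
    choose b hb using fun e => exists_root_of_mem_pPower (g e).2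
    let s := Module.Free.chooseBasis k K
    let J := T.biUnion fun e => (s.repr (b e)).support
    have hbe : ∀ e ∈ T, b e = ∑ j ∈ J, s.repr (b e) j • s j := by
      intro e he
      conv_lhs => rw [← s.linearCombination_repr (b e), Finsupp.linearCombination_apply]
      rw [Finsupp.sum_of_support_subset (s.repr (b e)) (Finset.subset_biUnion_of_mem
        (fun e => (s.repr (b e)).support) he) (fun j r => r • s j) (fun _ _ => zero_smul _ _)]
    obtain ⟨a, ha⟩ : ∃ a : Red p B → Module.Free.ChooseBasisIndex k K → k,
        ∀ e ∈ T, b e = ∑ j ∈ J, a e j • s j := ⟨_, hbe⟩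
    let c : Module.Free.ChooseBasisIndex k K → k := fun j =>
      ∑ e ∈ T, a e j ^ p * pMonomial x e.1
    have hc : ∑ j ∈ J, c j • s j ^ p = 0 := by
      refine Eq.trans ?_ hg
      simp only [c, Finset.sum_smul]
      rw [Finset.sum_comm]
      refine Finset.sum_congr rfl fun e he => ?_
      change _ = (g e : K) * _
      rw [← hb e, ha e he, sum_pow_char, Finset.sum_mul]
      refine Finset.sum_congr rfl fun j _ => ?_
      rw [smul_pow, hxe, Algebra.smul_def, Algebra.smul_def, map_mul]
      ring
    have hc0 := linearIndependent_iff'.1 (hpow _ s.linearIndependent) J c hc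
    refine Subtype.ext ?_
    rw [← hb e, ha e he, Finset.sum_eq_zero fun j hj => ?_, zero_pow hp.out.ne_zero]
    · rfl
    let G : Red p B → pPowerSubalgebra p P k := fun e =>
      ⟨a e j ^ p, Algebra.subset_adjoin ⟨_, rfl⟩⟩
    have h2 : a e j ^ p = 0 :=
      congrArg Subtype.val (linearIndependent_iff'.1 hroot.indep T G (hc0 j hj) e he)
    rw [(pow_eq_zero_iff hp.out.ne_zero).1 h2, zero_smul]

end charp

section main

variable {k K : Type u} [Field k] [Field K] [Algebra k K]

theorem formallySmooth_of_charZero [CharZero k] : Algebra.FormallySmooth k K := by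
  obtain ⟨s, hs⟩ := exists_isTranscendenceBasis k K
  haveI := hs.isAlgebraic_field
  haveI : Algebra.IsSeparable (IntermediateField.adjoin k (Set.range ((↑) : s → K))) K :=
    inferInstance
  exact .of_algebraicIndependent_of_isSeparable hs.1

/-- The prime field in universe `u`. -/
abbrev PrimeFld (p : ℕ) : Type u := ULift.{u} (ZMod p)

theorem isGeometricallyReduced_iff_injective_int :
    Algebra.IsGeometricallyReduced k K ↔ Function.Injective (mapBaseChange ℤ k K) := by
  obtain h0 | ⟨p, hp, hpk⟩ := CharP.exists' k
  · haveI : Algebra.FormallySmooth k K := formallySmooth_of_charZero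
    exact iff_of_true isGeometricallyReduced_of_perfectField
      (injective_mapBaseChange_of_formallySmooth ℤ k K)
  · haveI : CharP K p := charP_of_injective_algebraMap (algebraMap k K).injective p
    haveI : CharP (PrimeFld.{u} p) p := charP_of_injective_ringHom
      (f := (ULift.ringEquiv.symm : ZMod p ≃+* PrimeFld.{u} p).toRingHom)
      ULift.ringEquiv.symm.injective p
    haveI : PerfectRing (PrimeFld.{u} p) p := PerfectRing.ofFiniteOfIsReduced p _
    letI : Algebra (PrimeFld.{u} p) k :=
      ((ZMod.castHom (dvd_refl p) k).comp ULift.ringEquiv.toRingHom).toAlgebra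
    letI : Algebra (PrimeFld.{u} p) K :=
      ((algebraMap k K).comp (algebraMap (PrimeFld.{u} p) k)).toAlgebra
    haveI : IsScalarTower (PrimeFld.{u} p) k K := IsScalarTower.of_algebraMap_eq fun _ => rfl
    haveI : Algebra.FormallyUnramified ℤ (PrimeFld.{u} p) :=
      .of_surjective (Algebra.ofId ℤ _) (by
        intro z
        refine ⟨(z.down.val : ℤ), (ULift.ringEquiv : PrimeFld.{u} p ≃+* ZMod p).injective ?_⟩
        change ULift.ringEquiv (algebraMap ℤ (PrimeFld.{u} p) _) = _
        rw [eq_intCast, map_intCast]
        simp; rfl)
    rw [injective_mapBaseChange_iff_of_formallyUnramified ℤ (PrimeFld.{u} p) k K,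
      injective_mapBaseChange_iff_powIndep, isGeometricallyReduced_iff_powIndep]

theorem formallySmooth_iff_isGeometricallyReduced :
    Algebra.FormallySmooth k K ↔ Algebra.IsGeometricallyReduced k K := by
  refine ⟨fun h => isGeometricallyReduced_iff_injective_int.2
    (injective_mapBaseChange_of_formallySmooth ℤ k K), fun h => ?_⟩
  obtain h0 | ⟨p, hp, hpk⟩ := CharP.exists' k
  · exact formallySmooth_of_charZero
  · haveI : CharP K p := charP_of_injective_algebraMap (algebraMap k K).injective p
    haveI : CharP (PrimeFld.{u} p) p := charP_of_injective_ringHom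
      (f := (ULift.ringEquiv.symm : ZMod p ≃+* PrimeFld.{u} p).toRingHom)
      ULift.ringEquiv.symm.injective p
    haveI : PerfectRing (PrimeFld.{u} p) p := PerfectRing.ofFiniteOfIsReduced p _
    letI : Algebra (PrimeFld.{u} p) k :=
      ((ZMod.castHom (dvd_refl p) k).comp ULift.ringEquiv.toRingHom).toAlgebra
    letI : Algebra (PrimeFld.{u} p) K :=
      ((algebraMap k K).comp (algebraMap (PrimeFld.{u} p) k)).toAlgebra
    haveI : IsScalarTower (PrimeFld.{u} p) k K := IsScalarTower.of_algebraMap_eq fun _ => rfl
    haveI : Algebra.FormallySmooth (PrimeFld.{u} p) K := formallySmooth_perfect p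
    exact ⟨inferInstance, subsingleton_h1Cotangent_of_injective (PrimeFld.{u} p) k K
      (injective_mapBaseChange_iff_powIndep.2 (isGeometricallyReduced_iff_powIndep.1 h))⟩

end main

end GrothLib.SepField
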